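import Groth.Agent.Lib.OX.PullbackTensor
import Groth.Agent.Lib.HomSh.Gen
import Groth.Agent.Lib.FlatFP.Sheaf
import Groth.Agent.Lib.QCoh.Coherent
import Groth.Agent.Lib.Ref1.Frame
import Mathlib.RingTheory.Flat.FaithfullyFlat.Algebra
import Mathlib.AlgebraicGeometry.Morphisms.Flat

/-!
# Descent of generation by finitely many sections
-/

set_option autoImplicit false
set_option backward.isDefEq.respectTransparency false
set_option backward.isDefEq.respectTransparency.types false

universe u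

open CategoryTheory CategoryTheory.Limits AlgebraicGeometry Opposite TopologicalSpace
open scoped TensorProduct

namespace GrothLib.FTDesc

variable {X Y : Scheme.{u}}

/-- The germs of the family generate the stalk. -/
def SpanAt (N : X.Modules) {W : X.Opens} {ι : Type u} (t : ι → Γ(N, W)) (x : X) (hx : x ∈ W) : Prop :=
  Submodule.span (X.presheaf.stalk x) (Set.range fun i => N.presheaf.germ W x hx (t i)) = ⊤

/-- Generation by finitely many given sections is an open condition for a module of finite type. -/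
theorem exists_nhd_spanAt {N : X.Modules} (hN : CohB1.IsFT N) {W : X.Opens} {ι : Type u} [Fintype ι]
    (t : ι → Γ(N, W)) {x : X} (hx : x ∈ W) (h : SpanAt N t x hx) :
    ∃ (T : X.Opens) (hT : T ≤ W), x ∈ T ∧ ∀ z (hz : z ∈ T), SpanAt N t z (hT hz) := by
  obtain ⟨W₁, κ, _, s, hxW₁, hgen⟩ := HomSh.exists_genOn N hN x
  have hc : ∀ k, ∃ c : ι → X.presheaf.stalk x, ∑ i, c i • N.presheaf.germ W x hx (t i) = N.presheaf.germ W₁ x hxW₁ (s k) :=
    fun k => (Submodule.mem_span_range_iff_exists_fun _).1 (h.ge Submodule.mem_top)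
  choose c hc using hc
  obtain ⟨T₀, hT₀, hxT₀, r, hr⟩ := Ref1.exists_repr_nhd (show x ∈ W ⊓ W₁ from ⟨hx, hxW₁⟩) (fun p : κ × ι => c p.1 p.2)
  have heq : ∀ k, N.presheaf.germ T₀ x hxT₀ (∑ i, r (k, i) • N.presheaf.map (homOfLE (hT₀.trans inf_le_left)).op (t i)) =
      N.presheaf.germ T₀ x hxT₀ (N.presheaf.map (homOfLE (hT₀.trans inf_le_right)).op (s k)) := fun k => by
    rw [map_sum, TopCat.Presheaf.germ_res_apply, ← hc k]
    exact Finset.sum_congr rfl fun i _ => by rw [Mero.germ_smul, TopCat.Presheaf.germ_res_apply, hr]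
  choose T hxT i i' hTk using fun k => TopCat.Presheaf.germ_eq N.presheaf x hxT₀ hxT₀ _ _ (heq k)
  let T' : X.Opens := ⟨(⋂ k, (T k : Set X)) ∩ T₀, (isOpen_iInter_of_finite fun k => (T k).isOpen).inter T₀.isOpen⟩
  have hT' : ∀ k, T' ≤ T k := fun k z hz => Set.mem_iInter.1 hz.1 k
  refine ⟨T', fun z hz => (hT₀ hz.2).1, ⟨Set.mem_iInter.2 hxT, hxT₀⟩, fun z hz => ?_⟩
  refine eq_top_iff.2 ((hgen z (hT₀ hz.2).2).ge.trans (Submodule.span_le.2 ?_))
  rintro _ ⟨k, rfl⟩
  have := congrArg (N.presheaf.germ (T k) z (hT' k hz)) (hTk k)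
  rw [TopCat.Presheaf.germ_res_apply, TopCat.Presheaf.germ_res_apply, TopCat.Presheaf.germ_res_apply, map_sum] at this
  show N.presheaf.germ W₁ z _ (s k) ∈ _
  rw [← this]
  refine Submodule.sum_mem _ fun j _ => ?_
  rw [Mero.germ_smul, TopCat.Presheaf.germ_res_apply]
  exact Submodule.smul_mem _ _ (Submodule.subset_span ⟨j, rfl⟩)

/-- A finitely generated base change comes from finitely many elements. -/
theorem exists_fin_span_tmul {B S M : Type u} [CommRing B] [CommRing S] [Algebra B S] [AddCommGroup M] [Module B M]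
    [Module.Finite S (S ⊗[B] M)] :
    ∃ s : Finset M, Submodule.span S ((fun v => (1 : S) ⊗ₜ[B] v) '' (s : Set M)) = ⊤ := by
  classical
  obtain ⟨G, hG⟩ := Module.Finite.fg_top (R := S) (M := S ⊗[B] M)
  have : ∀ z : S ⊗[B] M, ∃ s : Finset M, z ∈ Submodule.span S ((fun v => (1 : S) ⊗ₜ[B] v) '' (s : Set M)) := by
    intro z
    induction z using TensorProduct.induction_on with
    | zero => exact ⟨∅, zero_mem _⟩
    | tmul a m =>
      refine ⟨{m}, ?_⟩
      rw [show a ⊗ₜ[B] m = a • ((1 : S) ⊗ₜ[B] m) by rw [TensorProduct.smul_tmul', smul_eq_mul, mul_one]]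
      exact Submodule.smul_mem _ _ (Submodule.subset_span ⟨m, by simp, rfl⟩)
    | add a b ha hb =>
      obtain ⟨s, hs⟩ := ha
      obtain ⟨t, ht⟩ := hb
      refine ⟨s ∪ t, add_mem (Submodule.span_mono ?_ hs) (Submodule.span_mono ?_ ht)⟩ <;>
        exact Set.image_mono (by simp)
  choose f hf using this
  refine ⟨G.biUnion f, eq_top_iff.2 (hG.ge.trans (Submodule.span_le.2 fun z hz => ?_))⟩
  exact Submodule.span_mono (Set.image_mono (Finset.coe_subset.2 (Finset.subset_biUnion_of_mem f hz))) (hf z)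

/-- Generation of a base change along a faithfully flat map is generation. -/
theorem span_eq_top_iff {B S M : Type u} [CommRing B] [CommRing S] [Algebra B S] [Module.FaithfullyFlat B S]
    [AddCommGroup M] [Module B M] (V : Set M) :
    Submodule.span S ((fun v => (1 : S) ⊗ₜ[B] v) '' V) = ⊤ ↔ Submodule.span B V = ⊤ := by
  refine ⟨fun h => ?_, fun h => ?_⟩
  · refine (Submodule.Quotient.subsingleton_iff).1 ?_
    have hle : Submodule.span S ((fun v => (1 : S) ⊗ₜ[B] v) '' V) ≤
        LinearMap.ker ((Submodule.span B V).mkQ.baseChange S) := by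
      refine Submodule.span_le.2 ?_
      rintro _ ⟨v, hv, rfl⟩
      simp [(Submodule.Quotient.mk_eq_zero _).2 (Submodule.subset_span hv)]
    rw [h, top_le_iff, LinearMap.ker_eq_top] at hle
    refine (Module.FaithfullyFlat.subsingleton_tensorProduct_iff_right B S).1 (subsingleton_of_forall_eq 0 fun z => ?_)
    obtain ⟨z', rfl⟩ := LinearMap.lTensor_surjective S (Submodule.mkQ_surjective (Submodule.span B V)) z
    exact DFunLike.congr_fun hle z'
  · refine eq_top_iff.2 fun z hz => ?_
    clear hz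
    induction z using TensorProduct.induction_on with
    | zero => exact zero_mem _
    | tmul a m =>
      rw [show a ⊗ₜ[B] m = a • ((1 : S) ⊗ₜ[B] m) by rw [TensorProduct.smul_tmul', smul_eq_mul, mul_one]]
      refine Submodule.smul_mem _ _ ?_
      have hm : m ∈ Submodule.span B V := h.ge Submodule.mem_top
      induction hm using Submodule.span_induction with
      | mem v hv => exact Submodule.subset_span ⟨v, hv, rfl⟩
      | zero => rw [TensorProduct.tmul_zero]; exact zero_mem _
      | add v w _ _ hv hw => rw [TensorProduct.tmul_add]; exact add_mem hv hw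
      | smul b v _ hv => rw [TensorProduct.tmul_smul]; exact Submodule.smul_of_tower_mem _ b hv
    | add a b ha hb => exact add_mem ha hb

variable (g : X ⟶ Y) [Flat g] (M : Y.Modules)

/-- Sections generate a stalk iff their inverse images generate the stalk of the inverse image. -/
theorem spanAt_pullback_iff {U : Y.Opens} {ι : Type u} (n : ι → Γ(M, U)) (x : X) (hx : g x ∈ U) :
    SpanAt ((Scheme.Modules.pullback g).obj M) (W := g ⁻¹ᵁ U) (fun i => OX.pullSec g M U (n i)) x hx ↔
      SpanAt M n (g x) hx := by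
  let B := Y.presheaf.stalk (g x)
  let S := X.presheaf.stalk x
  let : Algebra B S := (g.stalkMap x).hom.toAlgebra
  have : Module.Flat B S := Flat.stalkMap g x
  have : IsLocalHom (algebraMap B S) := inferInstanceAs (IsLocalHom (g.stalkMap x).hom)
  have : Module.FaithfullyFlat B S := Module.FaithfullyFlat.of_flat_of_isLocalHom
  let e : ((Scheme.Modules.pullback g).obj M).presheaf.stalk x ≃ₗ[S] S ⊗[B] M.presheaf.stalk (g x) :=
    ((OX.pullStalkIso g x).app M).toLinearEquiv
  refine Iff.trans ?_ (span_eq_top_iff (B := B) (S := S) (Set.range fun i => M.presheaf.germ U (g x) hx (n i)))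
  unfold SpanAt
  rw [← (Submodule.map_injective_of_injective e.injective).eq_iff, Submodule.map_top,
    LinearEquiv.range, Submodule.map_span, ← Set.range_comp, ← Set.range_comp]
  refine iff_of_eq (congrArg (fun s => Submodule.span S s = ⊤) (congrArg Set.range (funext fun i => ?_)))
  exact OX.pullStalkIso_germ g x M U hx (n i)

/-- Near every point finitely many stalk elements generate, once the inverse image is of finite type. -/
theorem exists_fin_spanning (h : CohB1.IsFT ((Scheme.Modules.pullback g).obj M)) (x : X) :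
    ∃ s : Finset (M.presheaf.stalk (g x)), Submodule.span (Y.presheaf.stalk (g x)) (s : Set (M.presheaf.stalk (g x))) = ⊤ := by
  let B := Y.presheaf.stalk (g x)
  let S := X.presheaf.stalk x
  let : Algebra B S := (g.stalkMap x).hom.toAlgebra
  have : Module.Flat B S := Flat.stalkMap g x
  have : IsLocalHom (algebraMap B S) := inferInstanceAs (IsLocalHom (g.stalkMap x).hom)
  have : Module.FaithfullyFlat B S := Module.FaithfullyFlat.of_flat_of_isLocalHom
  obtain ⟨W, κ, _, s, hxW, hgen⟩ := HomSh.exists_genOn _ h x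
  have : Module.Finite S (((Scheme.Modules.pullback g).obj M).presheaf.stalk x) :=
    ⟨(hgen x hxW) ▸ Submodule.fg_span (Set.finite_range _)⟩
  let e : ((Scheme.Modules.pullback g).obj M).presheaf.stalk x ≃ₗ[S] S ⊗[B] M.presheaf.stalk (g x) :=
    ((OX.pullStalkIso g x).app M).toLinearEquiv
  have : Module.Finite S (S ⊗[B] M.presheaf.stalk (g x)) := Module.Finite.equiv e
  obtain ⟨v, hv⟩ := exists_fin_span_tmul (B := B) (S := S) (M := M.presheaf.stalk (g x))
  exact ⟨v, (span_eq_top_iff _).1 hv⟩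

/-- The points over which finitely many sections generate contain a neighbourhood upstairs. -/
theorem exists_nhd_spanAt_image (h : CohB1.IsFT ((Scheme.Modules.pullback g).obj M)) {U : Y.Opens} {ι : Type u}
    [Fintype ι] (n : ι → Γ(M, U)) {x : X} (hx : g x ∈ U) (hs : SpanAt M n (g x) hx) :
    ∃ T : X.Opens, x ∈ T ∧ ∀ z ∈ T, ∃ hz : g z ∈ U, SpanAt M n (g z) hz := by
  obtain ⟨T, hT, hxT, hT'⟩ := exists_nhd_spanAt h _ _ ((spanAt_pullback_iff g M n x hx).2 hs)
  exact ⟨T, hxT, fun z hz => ⟨hT hz, (spanAt_pullback_iff g M n z (hT hz)).1 (hT' z hz)⟩⟩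

end GrothLib.FTDesc

namespace GrothLib.FTDesc

variable {X Y : Scheme.{u}} (g : X ⟶ Y) [Flat g] (M : Y.Modules)

/-- Sections of a module with finite-type inverse image are finite on a compactly covered affine open. -/
theorem moduleFinite_of_pullback [M.IsQuasicoherent] (h : CohB1.IsFT ((Scheme.Modules.pullback g).obj M))
    {V : Y.Opens} (hV : IsAffineOpen V) {K : Set X} (hK : IsCompact K) (hKV : ∀ z ∈ K, g z ∈ V)
    (hVK : ∀ y ∈ V, ∃ z ∈ K, g z = y) : Module.Finite Γ(Y, V) Γ(M, V) := by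
  classical
  have hpt : ∀ z : K, ∃ (S : Finset Γ(M, V)) (T : X.Opens), (z : X) ∈ T ∧
      ∀ w ∈ T, ∃ hw : g w ∈ V, SpanAt M (fun n : S => (n : Γ(M, V))) (g w) hw := by
    rintro ⟨z, hz⟩
    obtain ⟨v, hv⟩ := exists_fin_spanning g M h z
    let := Y.presheaf.algebra_section_stalk ⟨g z, hKV z hz⟩
    let : Module Γ(Y, V) (M.presheaf.stalk (g z)) := Module.compHom _ (Y.presheaf.germ V (g z) (hKV z hz)).hom
    have := FlatFP.isLocalization_stalk_primeAt hV (hKV z hz)
    obtain ⟨loc, hloc, hgerm⟩ := FlatFP.isLocalizedModule_germ M hV (hKV z hz)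
    choose p hp using fun e : M.presheaf.stalk (g z) => hloc.surj e
    let S : Finset Γ(M, V) := v.image fun e => (p e).1
    have hspan : SpanAt M (fun n : S => (n : Γ(M, V))) (g z) (hKV z hz) := by
      refine eq_top_iff.2 (hv.ge.trans (Submodule.span_le.2 fun e he => ?_))
      have hu : IsUnit (Y.presheaf.germ V (g z) (hKV z hz) (p e).2) :=
        IsLocalization.map_units (Y.presheaf.stalk (g z)) (p e).2
      refine (Submodule.smul_mem_iff_of_isUnit _ hu).1 (Submodule.subset_span ⟨⟨(p e).1, Finset.mem_image_of_mem _ he⟩, ?_⟩)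
      exact ((hgerm _).symm.trans (hp e).symm)
    obtain ⟨T, hzT, hT⟩ := exists_nhd_spanAt_image g M h _ (hKV z hz) hspan
    exact ⟨S, T, hzT, hT⟩
  choose S T hzT hT using hpt
  obtain ⟨F, hF⟩ := hK.elim_finite_subcover (fun z : K => (T z : Set X)) (fun z => (T z).isOpen)
    fun z hz => Set.mem_iUnion.2 ⟨⟨z, hz⟩, hzT _⟩
  let N : Submodule Γ(Y, V) Γ(M, V) := Submodule.span Γ(Y, V) (F.biUnion S : Set Γ(M, V))
  refine ⟨(eq_top_iff.2 fun a _ => ?_ : N = ⊤) ▸ Submodule.fg_span (Finset.finite_toSet _)⟩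
  by_contra ha
  obtain ⟨P, hP, hle⟩ := Ideal.exists_le_maximal (N.colon {a}) (fun htop => ha (by
    have h1 : (1 : Γ(Y, V)) ∈ N.colon {a} := htop ▸ Submodule.mem_top
    simpa [Submodule.mem_colon_singleton] using h1))
  obtain ⟨y, hy, hyP⟩ := AssPts.exists_point hV P hP.isPrime
  obtain ⟨z, hzK, rfl⟩ := hVK y hy
  obtain ⟨z₀, hz₀F, hzT₀⟩ := Set.mem_iUnion₂.1 (hF hzK)
  obtain ⟨_, hsp⟩ := hT z₀ z hzT₀
  let := Y.presheaf.algebra_section_stalk ⟨g z, hy⟩
  let : Module Γ(Y, V) (M.presheaf.stalk (g z)) := Module.compHom _ (Y.presheaf.germ V (g z) hy).hom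
  obtain ⟨loc, hloc, hgerm⟩ := FlatFP.isLocalizedModule_germ M hV hy
  obtain ⟨c, hc⟩ := (Submodule.mem_span_range_iff_exists_fun _).1 (hsp.ge (Submodule.mem_top (x := M.presheaf.germ V (g z) hy a)))
  obtain ⟨d, b, hd, hb⟩ := FlatFP.exists_common_denominator hV hy c
  have heq : loc (d • a) = loc (∑ k : S z₀, b k • (k : Γ(M, V))) := by
    simp only [map_sum, hgerm, Mero.germ_smul]
    rw [← hc, Finset.smul_sum]
    exact Finset.sum_congr rfl fun k _ => by rw [hb, smul_smul]
  obtain ⟨e, he⟩ := hloc.exists_of_eq heq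
  have hmem : (e : Γ(Y, V)) * d ∈ N.colon {a} := by
    rw [Submodule.mem_colon_singleton, mul_smul]
    rw [show (e : Γ(Y, V)) • d • a = (e : Γ(Y, V)) • ∑ k : S z₀, b k • (k : Γ(M, V)) from he]
    exact Submodule.smul_mem _ _ (Submodule.sum_mem _ fun k _ => Submodule.smul_mem _ _
      (Submodule.subset_span (Finset.mem_coe.2 (Finset.mem_biUnion.2 ⟨z₀, hz₀F, k.2⟩))))
  rcases hP.isPrime.mem_or_mem (hle hmem) with h1 | h1
  · exact e.2 (hyP ▸ h1)
  · exact hd (hyP ▸ h1)

/-- Finite type descends along a flat surjective quasi-compact morphism, for quasi-coherent modules. -/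
theorem isFT_of_pullback [M.IsQuasicoherent] [Surjective g] [QuasiCompact g]
    (h : CohB1.IsFT ((Scheme.Modules.pullback g).obj M)) :
    SheafOfModules.IsFiniteType.{u, u, u} (R := Y.ringCatSheaf) M :=
  (QCoh.isFiniteType_iff_moduleFinite M).2 fun V hV =>
    moduleFinite_of_pullback g M h hV (g.isCompact_preimage hV.isCompact) (fun _ hz => hz)
      fun y hy => (g.surjective y).imp fun z hz => ⟨show g z ∈ V by rw [hz]; exact hy, hz⟩

/-- Along an open flat surjection, finitely many sections generate near every point. -/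
theorem exists_genOn_of_pullback [Surjective g] (hg : IsOpenMap g.base)
    (h : CohB1.IsFT ((Scheme.Modules.pullback g).obj M)) (y : Y) :
    ∃ (W : Y.Opens) (ι : Type u) (_ : Fintype ι) (m : ι → Γ(M, W)), y ∈ W ∧ HomSh.GenOn M W m := by
  classical
  obtain ⟨x, rfl⟩ := g.surjective y
  obtain ⟨v, hv⟩ := exists_fin_spanning g M h x
  choose U hU n hn using fun e : v => TopCat.Presheaf.exists_germ_eq M.presheaf (e : M.presheaf.stalk (g x))
  let U₀ : Y.Opens := ⟨⋂ e, (U e : Set Y), isOpen_iInter_of_finite fun e => (U e).isOpen⟩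
  have hU₀ : ∀ e, U₀ ≤ U e := fun e z hz => Set.mem_iInter.1 hz e
  have hxU : g x ∈ U₀ := Set.mem_iInter.2 hU
  let n₀ : v → Γ(M, U₀) := fun e => M.presheaf.map (homOfLE (hU₀ e)).op (n e)
  have hspan : SpanAt M n₀ (g x) hxU := by
    refine eq_top_iff.2 (hv.ge.trans (Submodule.span_le.2 fun e he => Submodule.subset_span ⟨⟨e, he⟩, ?_⟩))
    exact (TopCat.Presheaf.germ_res_apply M.presheaf _ _ _ _).trans (hn ⟨e, he⟩)
  obtain ⟨T, hxT, hT⟩ := exists_nhd_spanAt_image g M h n₀ hxU hspan
  let W : Y.Opens := ⟨g.base '' (T : Set X), hg _ T.isOpen⟩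
  have hW : W ≤ U₀ := by rintro _ ⟨z, hz, rfl⟩; exact (hT z hz).1
  refine ⟨W, v, inferInstance, fun e => M.presheaf.map (homOfLE hW).op (n₀ e), ⟨x, hxT, rfl⟩, ?_⟩
  rintro _ ⟨z, hz, rfl⟩
  obtain ⟨hz', hs⟩ := hT z hz
  refine Eq.trans (congrArg (fun r => Submodule.span _ (Set.range r)) (funext fun e => ?_)) hs
  exact TopCat.Presheaf.germ_res_apply M.presheaf _ _ _ _

end GrothLib.FTDesc
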