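import Groth.Agent.Lib.FTDesc.Basic
import Groth.Agent.Lib.FlatDesc.Algebra
import Mathlib.RingTheory.LocalRing.Module
import Mathlib.RingTheory.TensorProduct.Free

/-!
# Descent of finite local freeness
-/

set_option autoImplicit false
set_option backward.isDefEq.respectTransparency false
set_option backward.isDefEq.respectTransparency.types false

universe u

open CategoryTheory CategoryTheory.Limits AlgebraicGeometry Opposite TopologicalSpace
open scoped TensorProduct

namespace GrothLib.FTDesc

variable {X Y : Scheme.{u}} (g : X ⟶ Y) [Flat g] (M : Y.Modules)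

/-- A free, finite stalk upstairs gives one downstairs, of the same rank. -/
theorem stalk_free_of_pullback (x : X)
    [Module.Free (X.presheaf.stalk x) (((Scheme.Modules.pullback g).obj M).presheaf.stalk x)]
    [Module.Finite (Y.presheaf.stalk (g x)) (M.presheaf.stalk (g x))] :
    Module.Free (Y.presheaf.stalk (g x)) (M.presheaf.stalk (g x)) ∧
      Module.finrank (X.presheaf.stalk x) (((Scheme.Modules.pullback g).obj M).presheaf.stalk x) =
        Module.finrank (Y.presheaf.stalk (g x)) (M.presheaf.stalk (g x)) := by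
  let B := Y.presheaf.stalk (g x)
  let S := X.presheaf.stalk x
  let : Algebra B S := (g.stalkMap x).hom.toAlgebra
  have : Module.Flat B S := Flat.stalkMap g x
  have : IsLocalHom (algebraMap B S) := inferInstanceAs (IsLocalHom (g.stalkMap x).hom)
  have : Module.FaithfullyFlat B S := Module.FaithfullyFlat.of_flat_of_isLocalHom
  let e : ((Scheme.Modules.pullback g).obj M).presheaf.stalk x ≃ₗ[S] S ⊗[B] M.presheaf.stalk (g x) :=
    ((OX.pullStalkIso g x).app M).toLinearEquiv
  have : Module.Free S (S ⊗[B] M.presheaf.stalk (g x)) := Module.Free.of_equiv e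
  have : Module.Flat S (S ⊗[B] M.presheaf.stalk (g x)) := Module.Flat.of_free
  have : Module.Flat B (S ⊗[B] M.presheaf.stalk (g x)) := Module.Flat.trans B S _
  have : Module.Flat B (M.presheaf.stalk (g x)) := FlatDesc.flat_of_flat_tensor (B := B) (S := S)
  have hfree : Module.Free B (M.presheaf.stalk (g x)) := Module.free_of_flat_of_isLocalRing
  exact ⟨hfree, e.finrank_eq.trans (Module.finrank_baseChange (R := S) (S := B) (M' := M.presheaf.stalk (g x)))⟩

/-- Being finite locally free descends along a quasi-compact flat surjection. -/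
theorem isFinLocFree_of_pullback [M.IsQuasicoherent] [Surjective g] [QuasiCompact g]
    (h : FlatMod.IsFinLocFree ((Scheme.Modules.pullback g).obj M))
    (hft : CohB1.IsFT ((Scheme.Modules.pullback g).obj M)) : FlatMod.IsFinLocFree M := by
  classical
  have hM : CohB1.IsFT M := isFT_of_pullback g M hft
  have hfin : ∀ y : Y, Module.Finite (Y.presheaf.stalk y) (M.presheaf.stalk y) := fun y => by
    obtain ⟨W, ι, _, m, hy, hgen⟩ := HomSh.exists_genOn M hM y
    exact ⟨(hgen y hy) ▸ Submodule.fg_span (Set.finite_range _)⟩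
  have hup : ∀ x : X, Module.Free (X.presheaf.stalk x) (((Scheme.Modules.pullback g).obj M).presheaf.stalk x) := fun x => by
    obtain ⟨U, n, e, hxU, he⟩ := FinCov.exists_frame_nhd h x
    exact Module.Free.of_equiv (LinearEquiv.ofBijective _ (Ref1.stalk_of_isFrame he x hxU))
  have hfree : ∀ y : Y, Module.Free (Y.presheaf.stalk y) (M.presheaf.stalk y) := fun y => by
    obtain ⟨x, rfl⟩ := g.surjective y
    have := hup x
    exact (stalk_free_of_pullback g M x).1
  let r : Y → ℕ := fun y => Module.finrank (Y.presheaf.stalk y) (M.presheaf.stalk y)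
  have hopen : ∀ n, IsOpen (r ⁻¹' {n}) := fun n => by
    rw [← (Flat.isQuotientMap_of_surjective g).isOpen_preimage, isOpen_iff_forall_mem_open]
    intro x hx
    obtain ⟨U, m, e, hxU, he⟩ := FinCov.exists_frame_nhd h x
    refine ⟨U, fun z hz => ?_, U.isOpen, hxU⟩
    have key : ∀ z ∈ U, r (g z) = m := fun z hz => by
      have := hup z
      show Module.finrank (Y.presheaf.stalk (g z)) (M.presheaf.stalk (g z)) = m
      rw [← (stalk_free_of_pullback g M z).2,
        ← (LinearEquiv.ofBijective _ (Ref1.stalk_of_isFrame he z hz)).finrank_eq, Module.finrank_pi, Fintype.card_fin]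
    change r (g z) = n
    rw [key z hz, ← key x hxU]
    exact hx
  intro y
  let n := r y
  let b : Module.Basis (Fin n) (Y.presheaf.stalk y) (M.presheaf.stalk y) :=
    have := hfree y; Module.finBasis _ _
  choose W hW t ht using fun j => TopCat.Presheaf.exists_germ_eq M.presheaf (b j)
  let U₀ : Y.Opens := ⟨⋂ j, (W j : Set Y), isOpen_iInter_of_finite fun j => (W j).isOpen⟩
  have hU₀ : ∀ j, U₀ ≤ W j := fun j z hz => Set.mem_iInter.1 hz j
  have hyU : y ∈ U₀ := Set.mem_iInter.2 hW
  let t₀ : ULift.{u} (Fin n) → Γ(M, U₀) := fun j => M.presheaf.map (homOfLE (hU₀ j.down)).op (t j.down)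
  have hspan : SpanAt M t₀ y hyU := by
    refine eq_top_iff.2 (b.span_eq.ge.trans (Submodule.span_le.2 ?_))
    rintro _ ⟨j, rfl⟩
    exact Submodule.subset_span ⟨⟨j⟩, (TopCat.Presheaf.germ_res_apply M.presheaf _ _ _ _).trans (ht j)⟩
  obtain ⟨T, hT, hyT, hTs⟩ := exists_nhd_spanAt hM t₀ hyU hspan
  let V : Y.Opens := ⟨(T : Set Y) ∩ r ⁻¹' {n}, T.isOpen.inter (hopen n)⟩
  have hV : V ≤ U₀ := fun z hz => hT hz.1
  let e : Fin n → Γ(M, V) := fun j => M.presheaf.map (homOfLE hV).op (t₀ ⟨j⟩)
  refine ⟨V, n, ⟨hyT, rfl⟩, FinCov.exists_iso_of_frame (e := e) (Ref1.isFrame_of_stalk fun z hz => ?_)⟩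
  have := hfree z
  have := hfin z
  have hsurj : Function.Surjective (Ref1.stalkComb e z hz) := by
    rw [← LinearMap.range_eq_top, Ref1.stalkComb, Fintype.range_linearCombination]
    refine eq_top_iff.2 ((hTs z hz.1).ge.trans (Submodule.span_mono ?_))
    rintro _ ⟨j, rfl⟩
    exact ⟨j.down, TopCat.Presheaf.germ_res_apply M.presheaf _ _ _ _⟩
  exact ⟨OrzechProperty.injective_of_surjective_endomorphism
    ((LinearEquiv.ofFinrankEq _ _ (by rw [Module.finrank_pi, Fintype.card_fin]; exact hz.2)).toLinearMap.comp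
      (Ref1.stalkComb e z hz)) ((LinearEquiv.surjective _).comp hsurj) |> fun hi => Function.Injective.of_comp hi, hsurj⟩

end GrothLib.FTDesc
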