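import Groth.Agent.Lib.HomSh.Gen
import Groth.Agent.Lib.QCoh.Locality
import Groth.Agent.Lib.Ref1.Frame
import Groth.Agent.Lib.InvExt.Transfer

/-!
# Finite type from local generation by finitely many sections
-/

set_option autoImplicit false
set_option backward.isDefEq.respectTransparency false
set_option backward.isDefEq.respectTransparency.types false

universe u

open CategoryTheory CategoryTheory.Limits AlgebraicGeometry Opposite TopologicalSpace
open AlgebraicGeometry.Scheme.Modules GrothLib.QCoh

namespace GrothLib.FTDesc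

variable {X : Scheme.{u}}

/-- Sections whose germs generate every stalk generate the module. -/
theorem exists_generatingSections (N : X.Modules) {ι : Type u} [Finite ι] (m : ι → Γ(N, ⊤))
    (h : ∀ y : X, Submodule.span (X.presheaf.stalk y) (Set.range fun i => N.presheaf.germ ⊤ y trivial (m i)) = ⊤) :
    ∃ G : SheafOfModules.GeneratingSections.{u} N, G.IsFiniteType := by
  let s : ι → SheafOfModules.sections (R := X.ringCatSheaf) N := fun i =>
    PresheafOfModules.sectionsMk (fun W => N.presheaf.map (homOfLE (le_top : W.unop ≤ ⊤)).op (m i)) (fun W W' f => by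
      show N.presheaf.map _ (N.presheaf.map _ _) = _
      rw [← ConcreteCategory.comp_apply, ← Functor.map_comp]; rfl)
  have : Epi (SheafOfModules.freeHomEquiv (R := X.ringCatSheaf) N |>.symm s) := by
    refine @Preadditive.epi_of_cancel_zero X.Modules _ _ _ _ _ fun {P : X.Modules} η hη => ?_
    have hkill : ∀ i, η.val.app (op ⊤) (m i) = 0 := fun i => by
      have h1 : SheafOfModules.freeHomEquiv P ((SheafOfModules.freeHomEquiv (R := X.ringCatSheaf) N).symm s ≫ η) i =
          SheafOfModules.sectionsMap η (s i) := by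
        rw [SheafOfModules.freeHomEquiv_comp_apply, Equiv.apply_symm_apply]
      rw [hη] at h1
      have h2 := congrArg (fun t : SheafOfModules.sections (R := X.ringCatSheaf) P => t.val (op ⊤)) h1
      have h3 : (SheafOfModules.freeHomEquiv P (0 : SheafOfModules.free ι ⟶ P) i).val (op ⊤) = 0 := by
        rw [SheafOfModules.freeHomEquiv_apply]; rfl
      have h4 : (s i).val (op ⊤) = m i := by
        show N.presheaf.map _ (m i) = m i
        exact (congrArg (fun k => k (m i)) (N.presheaf.map_id (op ⊤)))
      exact ((congrArg (η.val.app (op ⊤)) h4).symm.trans (h2.symm.trans h3))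
    refine SheafOfModules.hom_ext (PresheafOfModules.hom_ext fun V' => ModuleCat.hom_ext (LinearMap.ext fun t => ?_))
    obtain ⟨V⟩ := V'
    refine TopCat.Presheaf.section_ext ⟨P.presheaf, P.isSheaf⟩ _ _ _ fun y hy => ?_
    show P.presheaf.germ V y hy (η.app V t) = P.presheaf.germ V y hy 0
    rw [map_zero, ← GrothLib.QCoh.stalkLin_germ η hy t]
    have hz : ∀ v ∈ Submodule.span (X.presheaf.stalk y) (Set.range fun i => N.presheaf.germ ⊤ y trivial (m i)),
        GrothLib.QCoh.stalkLin η y v = 0 := by
      intro v hv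
      induction hv using Submodule.span_induction with
      | mem z hz =>
        obtain ⟨i, rfl⟩ := hz
        rw [GrothLib.QCoh.stalkLin_germ η]
        exact (congrArg (P.presheaf.germ ⊤ y trivial) (hkill i)).trans (map_zero _)
      | zero => exact map_zero _
      | add a b _ _ ha hb => rw [map_add, ha, hb, add_zero]
      | smul c a _ ha => rw [LinearMap.map_smul, ha, smul_zero]
    exact hz _ ((h y).ge Submodule.mem_top)
  exact ⟨{ I := ι, s := s, epi := this }, ⟨inferInstance⟩⟩

/-- Germs of a scalar multiple in a restriction. -/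
theorem restrictStalk_germ_smul (M : X.Modules) (U : X.Opens) (V : (U : Scheme.{u}).Opens) (y : (U : Scheme.{u}))
    (hy : y ∈ V) (r : Γ(U, V)) (t : Γ(M.restrict U.ι, V)) :
    ((Scheme.Modules.restrictStalkNatIso U.ι y).app M).hom ((M.restrict U.ι).presheaf.germ V y hy (r • t)) =
      X.presheaf.germ (U.ι ''ᵁ V) (U.ι y) ⟨y, hy, rfl⟩ (show Γ(X, U.ι ''ᵁ V) from r) •
        M.presheaf.germ (U.ι ''ᵁ V) (U.ι y) ⟨y, hy, rfl⟩ (show Γ(M, U.ι ''ᵁ V) from t) := by
  refine (ConcreteCategory.congr_hom (Scheme.Modules.germ_restrictStalkNatIso_hom_app U.ι y M (U := V) hy) (r • t)).trans ?_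
  rw [InvExt.restrict_smul, Scheme.Opens.ι_appIso]
  exact Mero.germ_smul M (U.ι ''ᵁ V) (U.ι y) ⟨y, hy, rfl⟩ r t

set_option maxHeartbeats 1600000 in
/-- Local generation by finitely many sections gives finite type. -/
theorem isFiniteType_of_genOn (M : X.Modules)
    (h : ∀ x : X, ∃ (W : X.Opens) (ι : Type u) (_ : Fintype ι) (m : ι → Γ(M, W)), x ∈ W ∧ HomSh.GenOn M W m) :
    SheafOfModules.IsFiniteType.{u, u, u} (R := X.ringCatSheaf) M := by
  choose W ι hι m hxW hgen using h
  have hG : ∀ x, ∃ G : SheafOfModules.GeneratingSections.{u} (M.restrict (W x).ι), G.IsFiniteType := by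
    intro x
    have := hι x
    have hle : (W x).ι ''ᵁ ⊤ ≤ W x := (W x).ι_image_le ⊤
    refine exists_generatingSections (M.restrict (W x).ι)
      (fun i => M.presheaf.map (homOfLE hle).op (m x i)) fun y => eq_top_iff.2 fun v _ => ?_
    let e := (Scheme.Modules.restrictStalkNatIso (W x).ι y).app M
    let φ : (M.restrict (W x).ι).presheaf.stalk y →+ M.presheaf.stalk ((W x).ι y) := e.hom.hom
    have hφ : ∀ (V : (W x : Scheme.{u}).Opens) (hV : y ∈ V) (t : Γ(M.restrict (W x).ι, V)),
        φ ((M.restrict (W x).ι).presheaf.germ V y hV t) =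
          M.presheaf.germ ((W x).ι ''ᵁ V) ((W x).ι y) ⟨y, hV, rfl⟩ t := fun V hV t =>
      ConcreteCategory.congr_hom (Scheme.Modules.germ_restrictStalkNatIso_hom_app (W x).ι y M (U := V) hV) t
    obtain ⟨c, hc⟩ := (Submodule.mem_span_range_iff_exists_fun _).1
      ((hgen x ((W x).ι y) y.2).ge (Submodule.mem_top (x := φ v)))
    obtain ⟨T, hT, hyT, r, hr⟩ := GrothLib.Ref1.exists_repr_nhd (show (W x).ι y ∈ W x from y.2) c
    let T' : (W x : Scheme.{u}).Opens := (W x).ι ⁻¹ᵁ T
    have hT' : (W x).ι ''ᵁ T' ≤ T := by rw [Scheme.Hom.image_preimage_eq_opensRange_inf]; exact inf_le_right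
    let r' : ι x → Γ(W x, T') := fun i => X.presheaf.map (homOfLE hT').op (r i)
    have hv : v = ∑ i, (W x : Scheme.{u}).presheaf.germ T' y hyT (r' i) •
        (M.restrict (W x).ι).presheaf.germ ⊤ y trivial (M.presheaf.map (homOfLE hle).op (m x i)) := by
      have hinj : Function.Injective φ := (ConcreteCategory.bijective_of_isIso e.hom).1
      refine hinj ?_
      rw [map_sum, ← hc]
      refine Finset.sum_congr rfl fun i _ => ?_
      have h1 : (W x : Scheme.{u}).presheaf.germ T' y hyT (r' i) •
          (M.restrict (W x).ι).presheaf.germ ⊤ y trivial (M.presheaf.map (homOfLE hle).op (m x i)) =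
          (M.restrict (W x).ι).presheaf.germ T' y hyT (r' i •
            (M.restrict (W x).ι).presheaf.map (homOfLE (le_top : T' ≤ ⊤)).op (M.presheaf.map (homOfLE hle).op (m x i))) := by
        rw [Mero.germ_smul, TopCat.Presheaf.germ_res_apply]
      rw [h1]
      refine Eq.trans ?_ (restrictStalk_germ_smul M (W x) T' y hyT _ _).symm
      show c i • _ = X.presheaf.germ _ _ _ (X.presheaf.map (homOfLE hT').op (r i)) •
        M.presheaf.germ _ _ _ (M.presheaf.map (homOfLE ((W x).ι.image_mono le_top)).op (M.presheaf.map (homOfLE hle).op (m x i)))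
      rw [TopCat.Presheaf.germ_res_apply, TopCat.Presheaf.germ_res_apply, TopCat.Presheaf.germ_res_apply, hr]
    rw [hv]
    exact Submodule.sum_mem _ fun i _ => Submodule.smul_mem _ _ (Submodule.subset_span ⟨i, rfl⟩)
  choose G hG using hG
  have hcov : IsOpenCover W := IsOpenCover.mk (eq_top_iff.2 fun y _ => Opens.mem_iSup.2 ⟨y, hxW y⟩)
  let η : ∀ U : X.Opens, SheafOfModules.unit (X.ringCatSheaf.over U) ≅
      (overEquiv U).inverse.obj (SheafOfModules.unit (U : Scheme.{u}).ringCatSheaf) := fun U =>
    (overEquiv U).unitIso.app _ ≪≫ (overEquiv U).inverse.mapIso (overUnitIso U)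
  have hpres : ∀ U : X.Opens, PreservesColimitsOfSize.{u, u} (overEquiv U).inverse := fun U =>
    (overEquiv U).symm.toAdjunction.leftAdjoint_preservesColimits
  let σ : SheafOfModules.LocalGeneratorsData.{u} (R := X.ringCatSheaf) M :=
    { I := X, X := W, coversTop := (Opens.coversTop_iff _ W).2 hcov,
      generators := fun x =>
        have := hpres (W x)
        ((G x).map (overEquiv (W x)).inverse (η (W x))).ofEpi
          (((overEquiv (W x)).inverse.mapIso ((overFunctorEquiv (W x)).app M).symm) ≪≫
            ((overEquiv (W x)).unitIso.app (SheafOfModules.over M (W x))).symm).hom }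
  have hσ : σ.IsFiniteType := by constructor; intro i; exact ⟨(hG i).finite⟩
  constructor
  exact ⟨σ, hσ⟩

end GrothLib.FTDesc
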